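import Mathlib
import Cfsg.Prelude.Def_Solvable
import Cfsg.Agent.Char.Induced
import Cfsg.Agent.Char.Irr
import Cfsg.Agent.Solv.SchurZassenhaus
import Cfsg.Agent.Solv.Counting

/-! Frobenius' theorem on the kernel of a Frobenius group. -/

set_option autoImplicit false
set_option linter.style.haveILetI false

namespace Cfsg.Agent.Frob
open Subgroup
open scoped Pointwise ComplexConjugate

universe u
variable {G : Type u} [Group G]

section Basic
variable {H : Subgroup G}

theorem ti (hH : Cfsg.IsFrobeniusComplement H) {h x : G} (hh : h ∈ H) (h1 : h ≠ 1)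
    (hx : x⁻¹ * h * x ∈ H) : x ∈ H := by
  by_contra hxH
  have hm : h ∈ H ⊓ (MulAut.conj x • H) := ⟨hh, Cfsg.Agent.Solv.mem_conj_smul.2 hx⟩
  rw [hH.2.2 x hxH, Subgroup.mem_bot] at hm
  exact h1 hm

theorem mem_kernel_iff {g : G} :
    g ∈ Cfsg.frobeniusKernel H ↔ g = 1 ∨ ∀ x : G, x⁻¹ * g * x ∉ H := by
  simp [Cfsg.frobeniusKernel, Cfsg.Agent.Solv.mem_conj_smul]

theorem not_mem_kernel {g : G} (hg : g ∉ Cfsg.frobeniusKernel H) :
    g ≠ 1 ∧ ∃ x : G, x⁻¹ * g * x ∈ H := by
  rw [mem_kernel_iff] at hg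
  push Not at hg
  exact hg

theorem conj_mem_kernel {g : G} (hg : g ∈ Cfsg.frobeniusKernel H) (x : G) :
    x * g * x⁻¹ ∈ Cfsg.frobeniusKernel H := by
  rw [mem_kernel_iff] at hg ⊢
  rcases hg with rfl | hg
  · exact Or.inl (by simp)
  · refine Or.inr fun y hy => hg (x⁻¹ * y) ?_
    have e : (x⁻¹ * y)⁻¹ * g * (x⁻¹ * y) = y⁻¹ * (x * g * x⁻¹) * y := by group
    rwa [e]

theorem eq_one_of_mem_inter {g : G} (hg : g ∈ Cfsg.frobeniusKernel H) (hgH : g ∈ H) : g = 1 := by
  rcases mem_kernel_iff.1 hg with h | h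
  · exact h
  · exact absurd (by simpa using hgH) (h 1)

theorem card_kernel [Finite G] (hH : Cfsg.IsFrobeniusComplement H) :
    Nat.card (Cfsg.frobeniusKernel H) = H.index := by
  classical
  let Φ : (G ⧸ H) × {h : H // h ≠ 1} → ((Cfsg.frobeniusKernel H)ᶜ : Set G) := fun qh =>
    ⟨qh.1.out * ((qh.2 : H) : G) * qh.1.out⁻¹, fun hk => by
      rcases mem_kernel_iff.1 hk with h | h
      · exact qh.2.2 (Subtype.ext (by simpa using conj_eq_one_iff.1 h))
      · refine h qh.1.out ?_
        have e : qh.1.out⁻¹ * (qh.1.out * ((qh.2 : H) : G) * qh.1.out⁻¹) * qh.1.out = ((qh.2 : H) : G) := by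
          group
        rw [e]; exact (qh.2 : H).2⟩
  have hΦ : Function.Bijective Φ := by
    constructor
    · rintro ⟨q, h⟩ ⟨q', h'⟩ e
      have e1 : q.out * ((h : H) : G) * q.out⁻¹ = q'.out * ((h' : H) : G) * q'.out⁻¹ :=
        congrArg Subtype.val e
      have hq : q = q' := by
        have h2 : (q.out⁻¹ * q'.out)⁻¹ * ((h : H) : G) * (q.out⁻¹ * q'.out) = ((h' : H) : G) := by
          calc (q.out⁻¹ * q'.out)⁻¹ * ((h : H) : G) * (q.out⁻¹ * q'.out)
              = q'.out⁻¹ * (q.out * ((h : H) : G) * q.out⁻¹) * q'.out := by group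
            _ = _ := by rw [e1]; group
        have h3 := ti hH (h : H).2 (fun h0 => h.2 (Subtype.ext h0)) (by rw [h2]; exact (h' : H).2)
        rw [← QuotientGroup.out_eq' q, ← QuotientGroup.out_eq' q', QuotientGroup.eq]
        exact h3
      subst hq
      have h4 : ((h : H) : G) = ((h' : H) : G) := mul_left_cancel (mul_right_cancel e1)
      exact Prod.ext rfl (Subtype.ext (Subtype.ext h4))
    · rintro ⟨g, hg⟩
      obtain ⟨hg1, x, hx⟩ := not_mem_kernel hg
      set q : G ⧸ H := (x : G ⧸ H) with hqdef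
      have hy : q.out⁻¹ * x ∈ H := by
        rw [← QuotientGroup.eq, QuotientGroup.out_eq']
      have hmem : q.out⁻¹ * g * q.out ∈ H := by
        have e : q.out⁻¹ * g * q.out = (q.out⁻¹ * x) * (x⁻¹ * g * x) * (q.out⁻¹ * x)⁻¹ := by group
        rw [e]; exact H.mul_mem (H.mul_mem hy hx) (H.inv_mem hy)
      refine ⟨(q, ⟨⟨_, hmem⟩, fun h0 => hg1 ?_⟩), Subtype.ext ?_⟩
      · have h5 : q.out⁻¹ * g * q.out = 1 := congrArg Subtype.val h0
        calc g = q.out * (q.out⁻¹ * g * q.out) * q.out⁻¹ := by group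
          _ = 1 := by rw [h5, mul_one, mul_inv_cancel]
      · show q.out * (q.out⁻¹ * g * q.out) * q.out⁻¹ = g
        group
  have h1 : Nat.card ((Cfsg.frobeniusKernel H)ᶜ : Set G) = H.index * (Nat.card H - 1) := by
    rw [← Nat.card_congr (Equiv.ofBijective Φ hΦ), Nat.card_prod, ← Subgroup.index_eq_card]
    congr 1
    haveI := Fintype.ofFinite H
    rw [Nat.card_eq_fintype_card, Nat.card_eq_fintype_card, Fintype.card_subtype_compl,
      Fintype.card_subtype_eq]
  have h2 : Nat.card (Cfsg.frobeniusKernel H) + Nat.card ((Cfsg.frobeniusKernel H)ᶜ : Set G) =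
      Nat.card G := by
    rw [← Nat.card_sum]
    exact Nat.card_congr (Equiv.Set.sumCompl _)
  rw [h1, ← H.index_mul_card] at h2
  obtain ⟨m, hm⟩ : ∃ m, Nat.card H = m + 1 := ⟨Nat.card H - 1, by
    have : 0 < Nat.card H := Nat.card_pos
    omega⟩
  rw [hm, Nat.add_sub_cancel, mul_add, mul_one] at h2
  omega

theorem index_mod [Finite G] (hH : Cfsg.IsFrobeniusComplement H) :
    H.index % Nat.card H = 1 % Nat.card H := by
  classical
  haveI := Fintype.ofFinite (G ⧸ H)
  let b : G ⧸ H := ((1 : G) : G ⧸ H)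
  have hstab : ∀ q : G ⧸ H, q ≠ b → ∀ h : H, h • q = q → h = 1 := by
    intro q hq h hh
    by_contra h1
    apply hq
    induction q using QuotientGroup.induction_on with
    | _ x =>
      have h2 : x⁻¹ * (h : G) * x ∈ H := by
        have h3 : (((h : G) * x : G) : G ⧸ H) = (x : G ⧸ H) := hh
        rw [eq_comm, QuotientGroup.eq] at h3
        simpa [mul_assoc] using h3
      rw [QuotientGroup.eq, mul_one]
      exact H.inv_mem (ti hH h.2 (fun e => h1 (Subtype.ext e)) h2)
  have hfix : ∀ h : H, h • b = b := fun h => by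
    show (((h : G) * 1 : G) : G ⧸ H) = b
    rw [mul_one, QuotientGroup.eq, mul_one]
    exact H.inv_mem h.2
  let Y := {q : G ⧸ H // q ≠ b}
  have hdvd : Nat.card H ∣ Nat.card Y := by
    refine Cfsg.Agent.Solv.dvd_card_of_fibers
      (fun y : Y => (Quotient.mk (MulAction.orbitRel H (G ⧸ H)) y.1)) (fun y => dvd_of_eq ?_)
    have hfib : Nat.card {y' : Y // (Quotient.mk (MulAction.orbitRel H (G ⧸ H)) y'.1) =
        Quotient.mk (MulAction.orbitRel H (G ⧸ H)) y.1} = Nat.card H := by
      refine Nat.card_congr (Equiv.ofBijective (fun h : H => (⟨⟨h • y.1, fun e => y.2 ?_⟩, ?_⟩ :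
        {y' : Y // (Quotient.mk (MulAction.orbitRel H (G ⧸ H)) y'.1) =
          Quotient.mk (MulAction.orbitRel H (G ⧸ H)) y.1})) ⟨?_, ?_⟩).symm
      · rw [← inv_smul_smul h y.1, e, hfix]
      · exact Quotient.sound (MulAction.mem_orbit _ h)
      · intro a c e
        have e1 : a • y.1 = c • y.1 := congrArg (fun z => z.1.1) e
        have := hstab y.1 y.2 (c⁻¹ * a) (by rw [mul_smul, e1, inv_smul_smul])
        exact (inv_mul_eq_one.1 this).symm
      · rintro ⟨⟨q, hq⟩, e⟩
        obtain ⟨h, hh⟩ := Quotient.exact e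
        exact ⟨h, Subtype.ext (Subtype.ext hh)⟩
    exact hfib.symm
  have hY : Nat.card Y + 1 = H.index := by
    have h0 : 0 < Fintype.card (G ⧸ H) := Fintype.card_pos
    show Nat.card {q : G ⧸ H // q ≠ b} + 1 = _
    rw [Subgroup.index_eq_card, Nat.card_eq_fintype_card, Nat.card_eq_fintype_card,
      Fintype.card_subtype_compl, Fintype.card_subtype_eq]
    omega
  obtain ⟨c, hc⟩ := hdvd
  rw [← hY, hc, add_comm, Nat.add_mul_mod_self_left]

end Basic

section Chars
open Cfsg.Agent.Char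

variable {H : Subgroup G}

theorem char_mul_of_eq_one [Finite G] {χ : G → ℂ} (h : Cfsg.IsCharacter G χ) {g : G}
    (hg : χ g = χ 1) : (∀ y, χ (g * y) = χ y) := by
  obtain ⟨n, ρ, rfl⟩ := h
  obtain ⟨b, ω, hb, hω⟩ := exists_eigenbasis ρ g (isOfFinOrder_of_finite g)
  rw [ρ.char_one, Representation.character, trace_of_eigenbasis _ b ω hb] at hg
  have hnorm : ∀ i, ‖ω i‖ = 1 := fun i => Complex.norm_eq_one_of_pow_eq_one (hω i) (orderOf_pos g).ne'
  have hre : ∑ i, (1 - (ω i).re) = 0 := by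
    rw [Finset.sum_sub_distrib, ← Complex.re_sum, hg]
    simp
  have hone : ∀ i, ω i = 1 := by
    intro i
    have h0 : ∀ j, 0 ≤ 1 - (ω j).re := fun j => by
      have := Complex.re_le_norm (ω j)
      rw [hnorm j] at this
      linarith
    have h1 := (Finset.sum_eq_zero_iff_of_nonneg (fun j _ => h0 j)).1 hre i (Finset.mem_univ i)
    have h2 : (ω i).im = 0 := by
      have h3 := Complex.sq_norm (ω i)
      rw [hnorm i, Complex.normSq_apply] at h3
      have h4 : (ω i).re = 1 := by linarith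
      rw [h4] at h3
      nlinarith
    exact Complex.ext (by simp; linarith) (by simp [h2])
  have hρ : ρ g = 1 := b.ext fun i => by simp [hb i, hone i]
  intro y
  simp only [Representation.character, map_mul, hρ, one_mul]

theorem exists_extension [Finite G] (hH : Cfsg.IsFrobeniusComplement H) (ψ : Cfsg.IrrCharacter H) :
    ∃ ξ : G → ℂ, Cfsg.IsCharacter G ξ ∧ (∀ h : H, ξ h = (ψ : H → ℂ) h) ∧
      ∀ g ∈ Cfsg.frobeniusKernel H, ξ g = ξ 1 := by
  classical
  haveI := Fintype.ofFinite G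
  haveI := Fintype.ofFinite H
  by_cases hψ : ψ = oneIrr H
  · subst hψ
    exact ⟨fun _ => 1, isCharacter_of_isIrrCharacter isIrrCharacter_one, fun h => by simp, fun g _ => rfl⟩
  obtain ⟨d, hd0, hd⟩ := irr_apply_one ψ
  set φ : H → ℂ := (ψ : H → ℂ) + (-(d : ℂ)) • (oneIrr H : H → ℂ) with hφdef
  have hφ1 : φ 1 = 0 := by simp [hφdef, hd]
  have hφc : Cfsg.IsClassFunction H φ := fun g x => by
    simp [hφdef, irr_isClassFunction ψ g x]
  set θ := Cfsg.indFun H φ with hθdef
  have hθc : Cfsg.IsClassFunction G θ := indFun_isClassFunction H φ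
  have hθH : ∀ h : H, θ h = φ h := by
    intro h
    by_cases h1 : h = 1
    · subst h1
      rw [Subgroup.coe_one, hθdef, indFun_apply_one, hφ1, mul_zero]
    have hval : ∀ x : G, Cfsg.extendByZero H φ (x⁻¹ * (h : G) * x) = if x ∈ H then φ h else 0 := by
      intro x
      split_ifs with hx
      · rw [extendByZero_of_mem H φ (H.mul_mem (H.mul_mem (H.inv_mem hx) h.2) hx)]
        have := hφc h (⟨x, hx⟩ : H)⁻¹
        rw [inv_inv] at this
        exact this
      · exact extendByZero_of_not_mem H φ (fun hh => hx (ti hH h.2 (fun e => h1 (Subtype.ext e)) hh))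
    rw [hθdef, indFun_eq_of_mem_iff]
    simp only [hval]
    rw [Finset.sum_ite, Finset.sum_const_zero, add_zero, Finset.sum_const, nsmul_eq_mul,
      ← Fintype.card_subtype, ← Nat.card_eq_fintype_card]
    have : (Nat.card H : ℂ) ≠ 0 := by exact_mod_cast Nat.card_pos.ne'
    show (Nat.card H : ℂ)⁻¹ * ((Nat.card H : ℂ) * φ h) = φ h
    field_simp
  have hθK : ∀ g ∈ Cfsg.frobeniusKernel H, θ g = 0 := by
    intro g hg
    rcases mem_kernel_iff.1 hg with rfl | hg
    · rw [hθdef, indFun_apply_one, hφ1, mul_zero]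
    · rw [hθdef, indFun_eq_of_mem_iff,
        Finset.sum_eq_zero (fun x _ => extendByZero_of_not_mem H φ (hg x)), mul_zero]
  have h1ψ : Cfsg.classInner (ψ : H → ℂ) (oneIrr H : H → ℂ) = 0 := classInner_irr_of_ne hψ
  have hψ1 : Cfsg.classInner (oneIrr H : H → ℂ) (ψ : H → ℂ) = 0 := classInner_irr_of_ne (Ne.symm hψ)
  have hres1 : (fun h : H => (oneIrr G : G → ℂ) h) = (oneIrr H : H → ℂ) := by funext h; simp
  have hθ1 : Cfsg.classInner θ (oneIrr G : G → ℂ) = -(d : ℂ) := by
    rw [hθdef, classInner_indFun H φ (irr_isClassFunction (oneIrr G)), hres1, hφdef,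
      classInner_add_left, classInner_smul_left, h1ψ, classInner_irr_self, zero_add, mul_one]
  have hθθ : Cfsg.classInner θ θ = 1 + (d : ℂ) * d := by
    rw [show Cfsg.classInner θ θ = Cfsg.classInner φ φ by
      conv_lhs => rw [hθdef, classInner_indFun H φ (hθdef ▸ hθc)]
      congr 1
      funext h; exact hθH h]
    rw [hφdef]
    simp only [classInner_add_left, classInner_add_right, classInner_smul_left, classInner_smul_right,
      h1ψ, hψ1, classInner_irr_self, map_neg, Complex.conj_natCast]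
    ring
  set ξ := θ + (d : ℂ) • (oneIrr G : G → ℂ) with hξdef
  have hξc : Cfsg.IsClassFunction G ξ := fun g x => by simp [hξdef, hθc g x]
  have hξξ : Cfsg.classInner ξ ξ = 1 := by
    have h1θ : Cfsg.classInner (oneIrr G : G → ℂ) θ = -(d : ℂ) := by
      rw [← classInner_conj_symm, hθ1, map_neg, Complex.conj_natCast]
    simp only [hξdef, classInner_add_left, classInner_add_right, classInner_smul_left,
      classInner_smul_right, hθθ, hθ1, h1θ, classInner_irr_self, Complex.conj_natCast]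
    ring
  have hint : ∀ χ : Cfsg.IrrCharacter G, ∃ n : ℤ, Cfsg.classInner ξ (χ : G → ℂ) = n := by
    intro χ
    have hres : Cfsg.IsCharacter H (fun h : H => (χ : G → ℂ) h) :=
      isCharacter_comp (isCharacter_of_isIrrCharacter χ.2) H.subtype
    obtain ⟨a, ha⟩ := exists_nat_inner (isCharacter_of_isIrrCharacter ψ.2) hres
    obtain ⟨b, hb⟩ := exists_nat_inner (isCharacter_of_isIrrCharacter (oneIrr H).2) hres
    obtain ⟨c, hc⟩ := exists_nat_inner (isCharacter_of_isIrrCharacter (oneIrr G).2) (isCharacter_of_isIrrCharacter χ.2)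
    refine ⟨(a : ℤ) - d * b + d * c, ?_⟩
    rw [hξdef, classInner_add_left, classInner_smul_left, hθdef,
      classInner_indFun H φ (irr_isClassFunction χ), hφdef, classInner_add_left, classInner_smul_left, ha, hb, hc]
    push_cast; ring
  choose n hn using hint
  have hexp : ξ = ∑ χ : Cfsg.IrrCharacter G, (n χ : ℂ) • (χ : G → ℂ) := by
    conv_lhs => rw [classFunction_expand hξc]
    simp only [hn]
  have hsq : ∑ χ : Cfsg.IrrCharacter G, n χ * n χ = 1 := by
    have h2 : Cfsg.classInner ξ ξ = ∑ χ : Cfsg.IrrCharacter G, ((n χ * n χ : ℤ) : ℂ) := by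
      conv_lhs => arg 2; rw [hexp]
      rw [classInner_sum_right]
      refine Finset.sum_congr rfl fun χ _ => ?_
      rw [classInner_smul_right, hn χ, map_intCast, Int.cast_mul]
    rw [hξξ] at h2
    exact_mod_cast h2.symm
  obtain ⟨χ₀, hχ₀⟩ : ∃ χ, n χ ≠ 0 := by
    by_contra hall
    push Not at hall
    simp [hall] at hsq
  have hothers : ∀ χ, χ ≠ χ₀ → n χ = 0 := by
    intro χ hne
    by_contra h0
    have h2 : n χ * n χ + n χ₀ * n χ₀ ≤ 1 := by
      rw [← hsq, ← Finset.sum_pair (f := fun χ => n χ * n χ) hne]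
      exact Finset.sum_le_sum_of_subset_of_nonneg (Finset.subset_univ _) (fun i _ _ => mul_self_nonneg _)
    have := mul_self_pos.2 h0
    have := mul_self_pos.2 hχ₀
    omega
  have hξeq : ξ = (n χ₀ : ℂ) • (χ₀ : G → ℂ) := by
    rw [hexp]
    exact Fintype.sum_eq_single χ₀ (fun χ hne => by rw [hothers χ hne, Int.cast_zero, zero_smul])
  have hn0 : n χ₀ = 1 := by
    have h3 : n χ₀ * n χ₀ = 1 := by
      rw [← hsq]
      exact (Fintype.sum_eq_single (f := fun χ => n χ * n χ) χ₀
        (fun χ hne => by simp [hothers χ hne])).symm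
    rcases Int.eq_one_or_neg_one_of_mul_eq_one h3 with h4 | h4
    · exact h4
    · exfalso
      obtain ⟨m, hm0, hm⟩ := irr_apply_one χ₀
      have h5 := congrFun hξeq 1
      rw [hξdef, Pi.add_apply, hθK 1 (Or.inl rfl), Pi.smul_apply, Pi.smul_apply, oneIrr_apply, hm, h4] at h5
      simp only [smul_eq_mul, mul_one, zero_add, Int.cast_neg, Int.cast_one, neg_mul, one_mul] at h5
      have h6 : (d : ℤ) = -(m : ℤ) := by exact_mod_cast h5
      omega
  refine ⟨ξ, ?_, fun h => ?_, fun g hg => ?_⟩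
  · rw [hξeq, hn0, Int.cast_one, one_smul]
    exact isCharacter_of_isIrrCharacter χ₀.2
  · simp [hξdef, hθH h, hφdef]
  · simp [hξdef, hθK g hg, hθK 1 (Or.inl rfl)]

theorem kernel_theorem [Finite G] (hH : Cfsg.IsFrobeniusComplement H) :
    ∃ N : Subgroup G, (N : Set G) = Cfsg.frobeniusKernel H ∧ N.Normal ∧ Subgroup.IsComplement' N H := by
  classical
  choose ξ hξ hres hker using exists_extension hH
  let N : Subgroup G :=
    { carrier := {g | ∀ ψ, ∀ y, ξ ψ (g * y) = ξ ψ y}
      mul_mem' := fun {a b} ha hb ψ y => by rw [mul_assoc, ha, hb]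
      one_mem' := fun ψ y => by rw [one_mul]
      inv_mem' := fun {a} ha ψ y => by
        conv_rhs => rw [← mul_inv_cancel_left a y]
        rw [ha] }
  have hmemN : ∀ g, g ∈ N ↔ ∀ ψ, ξ ψ g = ξ ψ 1 := fun g =>
    ⟨fun h ψ => by simpa using h ψ 1, fun h ψ => char_mul_of_eq_one (hξ ψ) (h ψ)⟩
  haveI hN : N.Normal := ⟨fun x hx g => by
    rw [hmemN] at hx ⊢
    intro ψ
    rw [isClassFunction_of_isCharacter (hξ ψ) x g]
    exact hx ψ⟩
  have hdisj : ∀ h : H, (h : G) ∈ N → h = 1 := by
    intro h hh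
    have h1 : IsConj h 1 := isConj_of_forall_irr_eq fun ψ => by
      have h2 := (hmemN _).1 hh ψ
      rw [hres ψ h] at h2
      have h3 := hres ψ 1
      rw [Subgroup.coe_one] at h3
      rw [← h3]; exact h2
    exact isConj_one_right.1 h1.symm
  have hset : (N : Set G) = Cfsg.frobeniusKernel H := by
    refine Set.Subset.antisymm (fun g hg => ?_) (fun g hg => (hmemN g).2 fun ψ => hker ψ g hg)
    by_contra hgK
    obtain ⟨hg1, x, hx⟩ := not_mem_kernel hgK
    have h2 : x⁻¹ * g * x ∈ N := by simpa using hN.conj_mem g hg x⁻¹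
    have h3 : x⁻¹ * g * x = 1 := congrArg Subtype.val (hdisj ⟨_, hx⟩ h2)
    exact hg1 (calc g = x * (x⁻¹ * g * x) * x⁻¹ := by group
      _ = 1 := by rw [h3, mul_one, mul_inv_cancel])
  refine ⟨N, hset, hN, Subgroup.isComplement'_of_card_mul_and_disjoint ?_ ?_⟩
  · have : Nat.card N = H.index := by
      rw [← card_kernel hH, ← hset]; rfl
    rw [this, H.index_mul_card]
  · rw [disjoint_iff, eq_bot_iff]
    intro g hg
    exact Subgroup.mem_bot.2 (congrArg Subtype.val (hdisj ⟨g, hg.2⟩ hg.1))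

end Chars

end Cfsg.Agent.Frob
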